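import Mathlib
import Cfsg.Agent.GT.Zipper
import Cfsg.Agent.Inv.Dihedral
import Cfsg.Agent.FG.ClassIdx

/-!
# A class of involutions inverting only elements that normalize no 2-subgroup

`Cfg Ω`: `Ω` is a normal set of involutions such that an element of odd prime order inverted by
a member of `Ω` normalizes no nontrivial 2-subgroup, and such members are central in every
2-subgroup containing them.  Then two commuting members of `Ω` are equal.
-/

namespace Cfsg.Agent.RCl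

open Subgroup

variable {H : Type*} [Group H]

/-- `x` has odd prime order. -/
def OP (x : H) : Prop := (orderOf x).Prime ∧ orderOf x ≠ 2

theorem OP.odd {x : H} (h : OP x) : Odd (orderOf x) := h.1.odd_of_ne_two h.2

theorem OP.ne_one {x : H} (h : OP x) : x ≠ 1 := by
  rintro rfl
  exact h.1.one_lt.ne' orderOf_one

theorem eq_one_of_odd_of_two_pow {x : H} (h : Odd (orderOf x)) {k : ℕ} (hk : x ^ 2 ^ k = 1) :
    x = 1 := by
  have h1 := orderOf_dvd_of_pow_eq_one hk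
  have h2 : (orderOf x).Coprime (2 ^ k) := (Nat.coprime_two_right.2 h).pow_right k
  exact orderOf_eq_one_iff.1 (Nat.Coprime.eq_one_of_dvd h2 h1)

theorem conj_inv_of_inverts {t c : H} (h : t * c * t⁻¹ = c⁻¹) : t * c⁻¹ * t⁻¹ = c := by
  calc t * c⁻¹ * t⁻¹ = (t * c * t⁻¹)⁻¹ := by group
    _ = c := by rw [h, inv_inv]

theorem OP.not_mem {x : H} (h : OP x) {P : Subgroup H} (hP : IsPGroup 2 P) : x ∉ P := by
  intro hx
  obtain ⟨k, hk⟩ := hP ⟨x, hx⟩
  exact h.ne_one (eq_one_of_odd_of_two_pow h.odd (k := k) (congrArg Subtype.val hk))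

theorem exists_op_of_odd [Finite H] {c : H} (hc : Odd (orderOf c)) (h1 : c ≠ 1) :
    ∃ x ∈ zpowers c, OP x := by
  obtain ⟨r, hr, hrc⟩ := Nat.exists_prime_and_dvd (show orderOf c ≠ 1 by simpa using h1)
  have := orderOf_pow_orderOf_div (orderOf_pos c).ne' hrc
  refine ⟨_, pow_mem (mem_zpowers c) (orderOf c / r), by rwa [this], ?_⟩
  rw [this]
  rintro rfl
  exact (Nat.not_even_iff_odd.2 hc) (even_iff_two_dvd.2 hrc)

theorem exists_op_of_not_isPGroup [Finite H] {t s : H} (ht : t * t = 1) (hs : s * s = 1)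
    (h : ¬ IsPGroup 2 (closure ({t, s} : Set H))) :
    ∃ x ∈ zpowers (t * s), OP x ∧ t * x * t⁻¹ = x⁻¹ := by
  by_cases h2 : ∀ {d : ℕ}, d.Prime → d ∣ orderOf (t * s) → d = 2
  · have := Nat.eq_prime_pow_of_unique_prime_dvd (orderOf_pos (t * s)).ne' h2
    exact absurd (Inv.isPGroup_closure_pair ht hs (by rw [← this]; exact pow_orderOf_eq_one _)) h
  · push Not at h2
    obtain ⟨r, hr, hrc, hr2⟩ := h2
    have := orderOf_pow_orderOf_div (orderOf_pos (t * s)).ne' hrc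
    have hm := pow_mem (mem_zpowers (t * s)) (orderOf (t * s) / r)
    exact ⟨_, hm, ⟨by rwa [this], by rwa [this]⟩,
      Inv.inverts_of_mem_zpowers (Inv.left_inverts_mul ht hs) hm⟩

theorem isPGroup_zpowers_of_sq {u : H} (hu : u * u = 1) : IsPGroup 2 (zpowers u) := by
  rintro ⟨_, n, rfl⟩
  refine ⟨1, Subtype.ext ?_⟩
  change (u ^ n) ^ 2 ^ 1 = 1
  rw [pow_one, ← zpow_natCast, ← zpow_mul, mul_comm, zpow_mul, zpow_natCast, sq, hu, one_zpow]

theorem mem_normalizer_zpowers_of_commute [Finite H] {u w : H} (h : Commute w u) :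
    w ∈ normalizer (zpowers u : Set H) := by
  apply GT.Tr.mem_normalizer_of_conj_mem
  rintro _ ⟨n, rfl⟩
  change w * u ^ n * w⁻¹ ∈ _
  rw [(h.zpow_right n).eq, mul_inv_cancel_right]
  exact zpow_mem (mem_zpowers u) n

/-- The configuration. -/
structure Cfg (Ω : Set H) : Prop where
  conj : ∀ w ∈ Ω, ∀ g : H, g * w * g⁻¹ ∈ Ω
  sq : ∀ w ∈ Ω, w * w = 1
  ne : ∀ w ∈ Ω, w ≠ 1
  one : ∀ w ∈ Ω, ∀ x : H, OP x → w * x * w⁻¹ = x⁻¹ → ∀ I : Subgroup H, IsPGroup 2 I →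
    x ∈ normalizer (I : Set H) → I = ⊥
  cen : ∀ w ∈ Ω, ∀ x : H, OP x → w * x * w⁻¹ = x⁻¹ → ∀ P : Subgroup H, IsPGroup 2 P →
    w ∈ P → ∀ t ∈ P, Commute t w
  ex : ∃ w ∈ Ω, ∃ x : H, OP x ∧ w * x * w⁻¹ = x⁻¹

namespace Cfg

variable [Finite H] {Ω : Set H} (C : Cfg Ω)
include C

theorem pCore_eq : pCore 2 H = ⊥ := by
  obtain ⟨w, hw, x, hx, h⟩ := C.ex
  refine C.one w hw x hx h _ (GT.isPGroup_pCore 2) ?_
  rw [normalizer_eq_top]; trivial

theorem inverts {w : H} (hw : w ∈ Ω) : ∃ x : H, OP x ∧ w * x * w⁻¹ = x⁻¹ := by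
  by_contra h
  refine C.ne w hw ?_
  rw [← mem_bot, ← C.pCore_eq]
  refine GT.baer_suzuki_elem fun g => by_contra fun h2 => h ?_
  obtain ⟨x, -, h3⟩ := exists_op_of_not_isPGroup (C.sq w hw) (C.sq _ (C.conj w hw g)) h2
  exact ⟨x, h3⟩

theorem central {w : H} (hw : w ∈ Ω) {P : Subgroup H} (hP : IsPGroup 2 P) (hwP : w ∈ P)
    {t : H} (ht : t ∈ P) : Commute t w := by
  obtain ⟨x, hx, h⟩ := C.inverts hw
  exact C.cen w hw x hx h P hP hwP t ht

theorem commute_of_normalizer {v w : H} (hv : v ∈ Ω) (hw : w ∈ Ω) {I : Subgroup H}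
    (hI : IsPGroup 2 I) (hI1 : I ≠ ⊥) (hvI : v ∈ normalizer (I : Set H))
    (hwI : w ∈ normalizer (I : Set H)) : Commute v w := by
  by_cases h : IsPGroup 2 (closure ({v, w} : Set H))
  · exact C.central hw h (subset_closure (by simp)) (subset_closure (by simp))
  · obtain ⟨x, hx, h1, h2⟩ := exists_op_of_not_isPGroup (C.sq v hv) (C.sq w hw) h
    exact absurd (C.one v hv x h1 h2 I hI (zpowers_le.2 (mul_mem hvI hwI) hx)) hI1

theorem commute_of_commute {v w u : H} (hv : v ∈ Ω) (hw : w ∈ Ω) (hu : u * u = 1) (hu1 : u ≠ 1)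
    (h1 : Commute v u) (h2 : Commute w u) : Commute v w :=
  C.commute_of_normalizer hv hw (isPGroup_zpowers_of_sq hu) (by simpa using hu1)
    (mem_normalizer_zpowers_of_commute h1) (mem_normalizer_zpowers_of_commute h2)

theorem odd_of_not_commute {v w : H} (hv : v ∈ Ω) (hw : w ∈ Ω) (h : ¬ Commute v w) :
    Odd (orderOf (v * w)) := by
  by_contra h1
  obtain ⟨h2, h3, h4⟩ := Inv.central_involution_of_even (C.sq v hv) (C.sq w hw)
    (Nat.not_odd_iff_even.1 h1)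
  exact h (C.commute_of_commute hv hw (Inv.mul_self_of_two h2) (Inv.ne_one_of_two h2)
    h3.symm h4.symm)

theorem exists_swap {z w : H} (hz : z ∈ Ω) (hw : w ∈ Ω) (h : ¬ Commute z w) :
    ∃ s ∈ Ω, s * z * s⁻¹ = w := by
  have ho := C.odd_of_not_commute hw hz fun e => h e.symm
  have hi := Inv.right_inverts_mul (C.sq w hw) (C.sq z hz)
  set r := w * z with hr
  set ρ := r ^ ((orderOf r + 1) / 2) with hρ
  have h1 : ρ * ρ = r := Inv.pow_half_succ_sq ho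
  have h2 : z * ρ * z⁻¹ = ρ⁻¹ := Inv.conj_pow_of_inverts hi _
  obtain ⟨d, -, hd⟩ := Inv.exists_conj_eq_mul_of_inverts_odd h2
    (ho.of_dvd_nat (orderOf_pow_dvd _))
  refine ⟨ρ * z, hd ▸ C.conj z hz d, ?_⟩
  have h3 : z * ρ⁻¹ = ρ * z := by
    rw [← mul_inv_eq_iff_eq_mul, conj_inv_of_inverts h2]
  calc ρ * z * z * (ρ * z)⁻¹ = ρ * (z * ρ⁻¹) := by group
    _ = r * z := by rw [h3, ← mul_assoc, h1]
    _ = w := by rw [hr, mul_assoc, C.sq z hz, mul_one]

theorem isPGroup_closure {z : H} (hz : z ∈ Ω) :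
    IsPGroup 2 (closure {a : H | a ∈ Ω ∧ Commute a z}) := by
  set A : Set H := {a : H | a ∈ Ω ∧ Commute a z}
  have h1 : ∀ a ∈ A, ∀ b ∈ A, a * b = b * a := fun a ha b hb =>
    C.commute_of_commute ha.1 hb.1 (C.sq z hz) (C.ne z hz) ha.2 hb.2
  have h2 : closure A ≤ centralizer A := by
    rw [closure_le]
    exact fun a ha => mem_centralizer_iff.2 fun b hb => h1 b hb a ha
  have h3 : closure A ≤ centralizer (closure A : Set H) := by
    rw [closure_le]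
    exact fun a ha => mem_centralizer_iff.2 fun b hb => (mem_centralizer_iff.1 (h2 hb) a ha).symm
  rintro ⟨a, ha⟩
  refine ⟨1, Subtype.ext ?_⟩
  change a ^ 2 ^ 1 = 1
  rw [pow_one]
  induction ha using closure_induction with
  | mem a ha => rw [_root_.sq]; exact C.sq a ha.1
  | one => simp
  | mul a b ha hb iha ihb =>
    rw [Commute.mul_pow (mem_centralizer_iff.1 (h3 hb) a ha), iha, ihb, mul_one]
  | inv a _ iha => rw [inv_pow, iha, inv_one]

theorem eq_of_commute {z₁ z₂ : H} (h₁ : z₁ ∈ Ω) (h₂ : z₂ ∈ Ω) (h : Commute z₁ z₂) : z₁ = z₂ := by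
  by_contra hne
  obtain ⟨x, hx, hinv⟩ := C.inverts h₁
  have hw := C.conj z₁ h₁ x
  set w := x * z₁ * x⁻¹ with hwd
  have n₁ : ¬ Commute z₁ w := by
    intro e
    have e1 : z₁ * x⁻¹ * z₁⁻¹ = x := conj_inv_of_inverts hinv
    have e2 : z₁ * w * z₁⁻¹ = x⁻¹ * z₁ * x := by
      calc z₁ * w * z₁⁻¹ = (z₁ * x * z₁⁻¹) * z₁ * (z₁ * x⁻¹ * z₁⁻¹) := by rw [hwd]; group
        _ = _ := by rw [hinv, e1]
    rw [e.eq, mul_inv_cancel_right, hwd] at e2
    have e3 : z₁ * x ^ 2 * z₁⁻¹ = x ^ 2 := by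
      calc z₁ * x ^ 2 * z₁⁻¹ = x * (x⁻¹ * z₁ * x) * x * z₁⁻¹ := by rw [_root_.sq]; group
        _ = x ^ 2 := by rw [← e2, _root_.sq]; group
    rw [Inv.conj_pow_of_inverts hinv] at e3
    refine hx.ne_one (eq_one_of_odd_of_two_pow hx.odd (k := 2) ?_)
    calc x ^ 2 ^ 2 = x ^ 2 * x ^ 2 := by group
      _ = 1 := by nth_rewrite 1 [← e3]; simp
  have n₂ : ¬ Commute z₂ w := fun e =>
    n₁ (C.commute_of_commute h₁ hw (C.sq z₂ h₂) (C.ne z₂ h₂) h e.symm)
  obtain ⟨s₁, hs₁, e₁⟩ := C.exists_swap h₁ hw n₁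
  obtain ⟨s₂, hs₂, e₂⟩ := C.exists_swap h₂ hw n₂
  have q₁ := C.sq s₁ hs₁
  have q₂ := C.sq s₂ hs₂
  have e : s₁ * s₂ * z₂ * (s₁ * s₂)⁻¹ = z₁ := by
    calc s₁ * s₂ * z₂ * (s₁ * s₂)⁻¹ = s₁ * (s₂ * z₂ * s₂⁻¹) * s₁⁻¹ := by group
      _ = (s₁ * s₁) * z₁ * (s₁ * s₁)⁻¹ := by rw [e₂, ← e₁]; group
      _ = z₁ := by rw [q₁]; group
  have nc : ¬ Commute (s₁ * s₂) z₂ := fun e' => by
    rw [e'.eq, mul_inv_cancel_right] at e
    exact hne e.symm
  by_cases hc : Commute s₁ s₂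
  · have q : s₁ * s₂ * (s₁ * s₂) = 1 := (Inv.commute_iff_mul_sq q₁ q₂).1 hc
    refine nc (C.central h₂ (Inv.isPGroup_closure_pair q (C.sq z₂ h₂) (k := 2) ?_)
      (subset_closure (by simp)) (subset_closure (by simp)))
    have e4 : (s₁ * s₂ * z₂) ^ 2 = z₁ * z₂ := by
      rw [← e, Inv.inv_of_mul_self q, _root_.sq]; group
    rw [show 2 ^ 2 = 2 * 2 from rfl, pow_mul, e4, _root_.sq]
    exact (Inv.commute_iff_mul_sq (C.sq z₁ h₁) (C.sq z₂ h₂)).1 h
  · have ho := C.odd_of_not_commute hs₁ hs₂ hc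
    have h1 : s₁ * s₂ ≠ 1 := fun e' => nc (by rw [e']; exact Commute.one_left _)
    obtain ⟨y, hy, hyo⟩ := exists_op_of_odd ho h1
    have hn : s₁ * s₂ ∈ normalizer (closure {a : H | a ∈ Ω ∧ Commute a z₂} : Set H) := by
      apply GT.Tr.mem_normalizer_of_conj_mem
      intro a ha
      have : (closure {a : H | a ∈ Ω ∧ Commute a z₂}) ≤
          (closure {a : H | a ∈ Ω ∧ Commute a z₂}).comap (MulAut.conj (s₁ * s₂)).toMonoidHom := by
        rw [closure_le]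
        intro b hb
        refine subset_closure ⟨C.conj b hb.1 _, ?_⟩
        refine C.commute_of_commute (C.conj b hb.1 _) h₂ (C.sq z₁ h₁) (C.ne z₁ h₁) ?_ h.symm
        rw [← e]
        exact hb.2.map (MulAut.conj (s₁ * s₂))
      exact this ha
    have := C.one s₁ hs₁ y hyo (Inv.inverts_of_mem_zpowers (Inv.left_inverts_mul q₁ q₂) hy) _
      (C.isPGroup_closure h₂) (zpowers_le.2 hn hy)
    have h2 : z₂ ∈ closure {a : H | a ∈ Ω ∧ Commute a z₂} := subset_closure ⟨h₂, Commute.refl _⟩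
    rw [this, mem_bot] at h2
    exact C.ne z₂ h₂ h2

end Cfg

end Cfsg.Agent.RCl
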