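import Mathlib
import Cfsg.Agent.RCl.Core

/-!
# Simple groups in which centralizers of real elements are transitive on Sylow 2-subgroups

No simple group of even order with trivial `O₂` has the property that the centralizer of each
real element of odd prime order is transitive on the Sylow 2-subgroups.
-/

namespace Cfsg.Agent.RCl

open Subgroup FG.CI
open scoped Pointwise

variable {G : Type*} [Group G]

theorem mem_smul_sylow {p : ℕ} (S : Sylow p G) (c t : G) :
    t ∈ ((c • S : Sylow p G) : Subgroup G) ↔ c⁻¹ * t * c ∈ (S : Subgroup G) := by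
  rw [Sylow.coe_subgroup_smul, mem_pointwise_smul_iff_inv_smul_mem]
  simp

/-- A 2-central involution. -/
def Cen (w : G) : Prop :=
  w ≠ 1 ∧ w * w = 1 ∧ ∃ S : Sylow 2 G, (S : Subgroup G) ≤ centralizer ({w} : Set G)

theorem smul_le_cent {S : Sylow 2 G} {w : G} (h : (S : Subgroup G) ≤ centralizer ({w} : Set G))
    (c : G) : ((c • S : Sylow 2 G) : Subgroup G) ≤ centralizer ({c * w * c⁻¹} : Set G) :=
  fun _ ht => mem_cent_conj.2 (h ((mem_smul_sylow S c _).1 ht))

theorem conj_sq {w : G} (h : w * w = 1) (c : G) : c * w * c⁻¹ * (c * w * c⁻¹) = 1 := by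
  rw [conj_mul, h]; group

theorem Cen.conj {w : G} (h : Cen w) (c : G) : Cen (c * w * c⁻¹) := by
  obtain ⟨h1, h2, S, hS⟩ := h
  exact ⟨by simpa using h1, conj_sq h2 c, c • S, smul_le_cent hS c⟩

theorem mem_sylow_of_le_cent [Finite G] {S : Sylow 2 G} {w : G} (hw : w * w = 1)
    (h : (S : Subgroup G) ≤ centralizer ({w} : Set G)) : w ∈ (S : Subgroup G) := by
  have h1 := (isPGroup_zpowers_of_sq hw).inf_normalizer_sylow S
  have h2 : w ∈ zpowers w ⊓ normalizer ((S : Subgroup G) : Set G) :=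
    ⟨mem_zpowers w, centralizer_le_normalizer _ (le_cent_iff.1 h)⟩
  exact (h1.le h2).2

theorem exists_cen [Finite G] (h : Even (Nat.card G)) : ∃ w : G, Cen w := by
  obtain ⟨S⟩ : Nonempty (Sylow 2 G) := inferInstance
  have h1 : Nontrivial (S : Subgroup G) := by
    rw [nontrivial_iff_ne_bot]
    exact S.ne_bot_of_dvd_card (even_iff_two_dvd.1 h)
  have h2 := S.isPGroup'.center_nontrivial
  have h3 : IsPGroup 2 (center (S : Subgroup G)) := S.isPGroup'.to_subgroup _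
  have h4 : Even (Nat.card (center (S : Subgroup G))) := by
    rcases h3.card_eq_or_dvd with h5 | h5
    · exact absurd h5 Finite.one_lt_card.ne'
    · exact even_iff_two_dvd.2 h5
  obtain ⟨t, ht, h5⟩ := Inv.exists_involution_mem_of_even h4
  refine ⟨t, by simpa using Inv.ne_one_of_two h5, congrArg Subtype.val (Inv.mul_self_of_two h5),
    S, fun s hs => mem_cent.2 ?_⟩
  exact congrArg Subtype.val (mem_center_iff.1 ht ⟨s, hs⟩)

theorem conj_inverts {w x c : G} (h : w * x * w⁻¹ = x⁻¹) (hc : Commute c x) :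
    c * w * c⁻¹ * x * (c * w * c⁻¹)⁻¹ = x⁻¹ := by
  calc c * w * c⁻¹ * x * (c * w * c⁻¹)⁻¹ = c * (w * (c⁻¹ * x * c) * w⁻¹) * c⁻¹ := by group
    _ = x⁻¹ := by
      rw [hc.inv_left.eq, inv_mul_cancel_right, h, hc.inv_right.eq, mul_inv_cancel_right]

theorem exists_lift {L K : Type*} [Group L] [Finite L] [Group K] {φ : L →* K}
    (hφ : Function.Surjective φ) {w : L} (hw : w * w = 1) {y : K} (hy : OP y)
    (h : φ w * y * (φ w)⁻¹ = y⁻¹) :
    ∃ g : L, OP g ∧ w * g * w⁻¹ = g⁻¹ ∧ φ g ∈ zpowers y := by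
  obtain ⟨x, rfl⟩ := hφ y
  have h1 : w * (x⁻¹ * (w * x * w⁻¹)) * w⁻¹ = (x⁻¹ * (w * x * w⁻¹))⁻¹ := by
    rw [← conj_mul, show w * (w * x * w⁻¹) * w⁻¹ = w * w * x * (w * w)⁻¹ by group, hw]
    group
  have h0 : φ (x⁻¹ * (w * x * w⁻¹)) = (φ x)⁻¹ ^ 2 := by
    rw [map_mul, map_mul, map_mul, map_inv, map_inv, h, sq]
  have h2 : orderOf (φ x) ∣ orderOf (x⁻¹ * (w * x * w⁻¹)) := by
    have h3 := congrArg φ (pow_orderOf_eq_one (x⁻¹ * (w * x * w⁻¹)))
    rw [map_pow, map_one, h0, ← pow_mul, inv_pow, inv_eq_one] at h3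
    exact ((Nat.coprime_primes hy.1 Nat.prime_two).2 hy.2).dvd_of_dvd_mul_left
      (orderOf_dvd_of_pow_eq_one h3)
  have h3 := orderOf_pow_orderOf_div (orderOf_pos _).ne' h2
  refine ⟨_, ⟨by rw [h3]; exact hy.1, by rw [h3]; exact hy.2⟩, Inv.conj_pow_of_inverts h1 _, ?_⟩
  rw [map_pow, h0]
  exact pow_mem (pow_mem (inv_mem (mem_zpowers _)) _) _

/-- Real elements of odd prime order have centralizers transitive on Sylow 2-subgroups. -/
def Tr (G : Type*) [Group G] : Prop :=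
  ∀ x : G, OP x → IsConj x x⁻¹ → ∀ S T : Sylow 2 G, ∃ c : G, Commute c x ∧ c • S = T

/-- `D` is maximal among the 2-subgroups normalized by an element of odd prime order inverted by
a 2-central involution. -/
def Mx (D : Subgroup G) : Prop :=
  IsPGroup 2 D ∧ ∀ (x w : G) (E : Subgroup G), OP x → Cen w → w * x * w⁻¹ = x⁻¹ → IsPGroup 2 E →
    x ∈ normalizer (E : Set G) → D ≤ E → E ≤ D

variable [Finite G]

theorem Mx.tr (hT : Tr G) {D : Subgroup G} (hD : Mx D) {x w : G} (hx : OP x) (hw : Cen w)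
    (h : w * x * w⁻¹ = x⁻¹) (hxD : x ∈ normalizer (D : Set G)) {S T : Sylow 2 G}
    (hS : D ≤ S) (hT' : D ≤ T) :
    ∃ c ∈ normalizer (D : Set G), Commute c x ∧ c • S = T := by
  obtain ⟨c, hc, e⟩ := hT x hx (isConj_iff.2 ⟨w, h⟩) S T
  refine ⟨c, ?_, hc, e⟩
  have h1 : D.map (MulAut.conj c).toMonoidHom ≤ T := by
    rintro _ ⟨d, hd, rfl⟩
    rw [← e, mem_smul_sylow]
    simpa [mul_assoc] using hS hd
  have h2 : x ∈ normalizer (D.map (MulAut.conj c).toMonoidHom : Set G) := by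
    apply GT.Tr.mem_normalizer_of_conj_mem
    rintro _ ⟨d, hd, rfl⟩
    refine ⟨x * d * x⁻¹, (mem_normalizer_iff.1 hxD d).1 hd, ?_⟩
    change c * (x * d * x⁻¹) * c⁻¹ = x * (c * d * c⁻¹) * x⁻¹
    calc c * (x * d * x⁻¹) * c⁻¹ = (c * x) * d * (c * x)⁻¹ := by group
      _ = _ := by rw [hc.eq]; group
  have h3 := hD.2 x w _ hx hw h (T.isPGroup'.to_le (sup_le hT' h1))
    (normalizer_inf_normalizer_le_normalizer_sup _ _ ⟨hxD, h2⟩) le_sup_left
  exact GT.Tr.mem_normalizer_of_conj_mem fun d hd => h3 (mem_sup_right ⟨d, hd, rfl⟩)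

/-- The images of the 2-central involutions in `N(D)/D`. -/
def Om (D : Subgroup G) :
    Set (normalizer (D : Set G) ⧸ D.subgroupOf (normalizer (D : Set G))) :=
  {a | ∃ w : normalizer (D : Set G), QuotientGroup.mk' _ w = a ∧ w * w = 1 ∧ (w : G) ∉ D ∧
    ∃ S : Sylow 2 G, D ≤ S ∧ (S : Subgroup G) ≤ centralizer ({(w : G)} : Set G)}

/-- The full preimage of a subgroup of `N(D)/D`. -/
def pre (D : Subgroup G)
    (I : Subgroup (normalizer (D : Set G) ⧸ D.subgroupOf (normalizer (D : Set G)))) :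
    Subgroup G :=
  (I.comap (QuotientGroup.mk' _)).map (normalizer (D : Set G)).subtype

omit [Finite G] in
theorem coe_mem_pre {D : Subgroup G}
    {I : Subgroup (normalizer (D : Set G) ⧸ D.subgroupOf (normalizer (D : Set G)))}
    {t : normalizer (D : Set G)} : (t : G) ∈ pre D I ↔ QuotientGroup.mk' _ t ∈ I :=
  ⟨fun ⟨_, hs, e⟩ => (Subtype.ext e : _ = t) ▸ hs, fun h => ⟨t, h, rfl⟩⟩

omit [Finite G] in
theorem le_pre {D : Subgroup G}
    (I : Subgroup (normalizer (D : Set G) ⧸ D.subgroupOf (normalizer (D : Set G)))) :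
    D ≤ pre D I := fun d hd => by
  refine (coe_mem_pre (t := ⟨d, le_normalizer hd⟩)).2 ?_
  rw [QuotientGroup.mk'_apply, (QuotientGroup.eq_one_iff _).2 (by exact hd)]
  exact one_mem _

omit [Finite G] in
theorem isPGroup_pre {D : Subgroup G} (hD : IsPGroup 2 D)
    {I : Subgroup (normalizer (D : Set G) ⧸ D.subgroupOf (normalizer (D : Set G)))}
    (hI : IsPGroup 2 I) : IsPGroup 2 (pre D I) := by
  refine (hI.comap_of_ker_isPGroup _ ?_).map _
  rw [QuotientGroup.ker_mk']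
  exact hD.comap_subtype

theorem Mx.cfg (hT : Tr G) {D : Subgroup G} (hD : Mx D)
    (hex : ∃ w ∈ Om D, ∃ x, OP x ∧ w * x * w⁻¹ = x⁻¹) : Cfg (Om D) := by
  have hs := QuotientGroup.mk'_surjective (D.subgroupOf (normalizer (D : Set G)))
  have lift : ∀ w : normalizer (D : Set G), w * w = 1 → (w : G) ∉ D → ∀ S : Sylow 2 G,
      (S : Subgroup G) ≤ centralizer ({(w : G)} : Set G) → ∀ y, OP y →
      QuotientGroup.mk' (D.subgroupOf (normalizer (D : Set G))) w * y *
        (QuotientGroup.mk' (D.subgroupOf (normalizer (D : Set G))) w)⁻¹ = y⁻¹ →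
      Cen (w : G) ∧ ∃ g : normalizer (D : Set G), OP (g : G) ∧ (w : G) * g * (w : G)⁻¹ = (g : G)⁻¹ ∧
        QuotientGroup.mk' (D.subgroupOf (normalizer (D : Set G))) g ∈ zpowers y := by
    intro w h1 h2 S hS y hy h
    obtain ⟨g, h3, h4, h5⟩ := exists_lift hs h1 hy h
    refine ⟨⟨fun e => h2 (e ▸ one_mem _), congrArg Subtype.val h1, S, hS⟩, g, ?_,
      congrArg Subtype.val h4, h5⟩
    unfold OP at h3 ⊢
    rwa [orderOf_coe]
  refine ⟨?_, ?_, ?_, ?_, ?_, hex⟩
  · rintro _ ⟨w, rfl, h1, h2, S, hS, h3⟩ g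
    obtain ⟨l, rfl⟩ := hs g
    refine ⟨l * w * l⁻¹, by simp, conj_sq h1 l, fun e => h2 ?_, (l : G) • S, fun d hd => ?_,
      smul_le_cent h3 l⟩
    · exact (mem_normalizer_iff.1 l.2 w).2 e
    · rw [mem_smul_sylow]
      exact hS ((mem_normalizer_iff''.1 l.2 d).1 hd)
  · rintro _ ⟨w, rfl, h1, -⟩
    rw [← map_mul, h1, map_one]
  · rintro _ ⟨w, rfl, -, h2, -⟩ e
    exact h2 ((QuotientGroup.eq_one_iff w).1 e)
  · rintro _ ⟨w, rfl, h1, h2, S, -, h3⟩ y hy h I hI hyI
    obtain ⟨hw, g, h4, h5, h6⟩ := lift w h1 h2 S h3 y hy h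
    have h7 := hD.2 g w (pre D I) h4 hw h5 (isPGroup_pre hD.1 hI) (by
      apply GT.Tr.mem_normalizer_of_conj_mem
      rintro _ ⟨a, ha, rfl⟩
      refine (coe_mem_pre (t := g * a * g⁻¹)).2 ?_
      rw [map_mul, map_mul, map_inv]
      exact (mem_normalizer_iff.1 (zpowers_le.2 hyI h6) _).1 ha) (le_pre I)
    rw [eq_bot_iff]
    intro a ha
    obtain ⟨a, rfl⟩ := hs a
    exact (QuotientGroup.eq_one_iff _).2 (h7 (coe_mem_pre.2 ha))
  · rintro _ ⟨w, rfl, h1, h2, S, hS, h3⟩ y hy h P hP hwP t ht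
    obtain ⟨hw, g, h4, h5, -⟩ := lift w h1 h2 S h3 y hy h
    obtain ⟨T, hPT⟩ := (isPGroup_pre hD.1 hP).exists_le_sylow
    have hDT := (le_pre P).trans hPT
    obtain ⟨c, hc, h6, rfl⟩ := hD.tr hT h4 hw h5 g.2 hS hDT
    have h7 := smul_le_cent h3 c
    have h8 := mem_sylow_of_le_cent (hw.conj c).2.1 h7
    have h9 := conj_inverts h5 h6
    set w' := c * (w : G) * c⁻¹ with hw'
    have h10 : Commute (g : G) (w * w') := by
      have : (w * w') * g * (w * w')⁻¹ = g := by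
        calc (w * w') * g * (w * w')⁻¹ = w * (w' * g * w'⁻¹) * (w : G)⁻¹ := by group
          _ = g := by rw [h9, conj_inv_of_inverts h5]
      exact (mul_inv_eq_iff_eq_mul.1 this).symm
    have h11 : (w : G) * w' ∈ ((c • S : Sylow 2 G) : Subgroup G) :=
      mul_mem (hPT (coe_mem_pre.2 hwP)) h8
    have h12 := hD.2 g w (D ⊔ zpowers (w * w')) h4 hw h5
      ((c • S).isPGroup'.to_le (sup_le hDT (zpowers_le.2 h11)))
      (normalizer_inf_normalizer_le_normalizer_sup _ _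
        ⟨g.2, mem_normalizer_zpowers_of_commute h10⟩) le_sup_left
      (mem_sup_right (mem_zpowers _))
    obtain ⟨t, rfl⟩ := hs t
    have h13 : w' ∈ normalizer (D : Set G) := mul_mem (mul_mem hc w.2) (inv_mem hc)
    have h14 : QuotientGroup.mk' (D.subgroupOf (normalizer (D : Set G))) w =
        QuotientGroup.mk' _ ⟨w', h13⟩ := by
      rw [QuotientGroup.mk'_apply, QuotientGroup.mk'_apply, QuotientGroup.eq,
        Inv.inv_of_mul_self h1]
      exact h12
    rw [h14]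
    refine Commute.map (show Commute t ⟨w', h13⟩ from Subtype.ext ?_) _
    exact mem_cent.1 (h7 (hPT (coe_mem_pre.2 ht)))

theorem exists_mx (h0 : ∃ x w : G, OP x ∧ Cen w ∧ w * x * w⁻¹ = x⁻¹) :
    ∃ (D : Subgroup G) (x w : G), Mx D ∧ OP x ∧ Cen w ∧ w * x * w⁻¹ = x⁻¹ ∧
      x ∈ normalizer (D : Set G) := by
  obtain ⟨x, w, h1, h2, h3⟩ := h0
  obtain ⟨D, ⟨h4, x, w, h5⟩, h6⟩ := ({D : Subgroup G | IsPGroup 2 D ∧ ∃ x w : G, OP x ∧ Cen w ∧
    w * x * w⁻¹ = x⁻¹ ∧ x ∈ normalizer (D : Set G)}).toFinite.exists_maximal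
    ⟨⊥, IsPGroup.of_bot, x, w, h1, h2, h3, by rw [normalizer_eq_top]; trivial⟩
  exact ⟨D, x, w, ⟨h4, fun y v E a b c d e f => h6 ⟨d, y, v, a, b, c, e⟩ f⟩, h5⟩

theorem not_tr [IsSimpleGroup G] (hev : Even (Nat.card G)) (hO : pCore 2 G = ⊥) : ¬ Tr G := by
  intro hT
  obtain ⟨D, x, w, hD, hx, hw, h, hxD⟩ := exists_mx (G := G) (by
    obtain ⟨w, hw⟩ := exists_cen hev
    by_contra h
    refine hw.1 ?_
    rw [← mem_bot, ← hO]
    refine GT.baer_suzuki_elem fun g => by_contra fun h2 => h ?_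
    obtain ⟨x, -, h3⟩ := exists_op_of_not_isPGroup hw.2.1 (hw.conj g).2.1 h2
    exact ⟨x, w, h3.1, hw, h3.2⟩)
  obtain ⟨U, hU⟩ := hD.1.exists_le_sylow
  have key : ∀ u : G, Cen u → ∃ c : G, Commute c x ∧
      (U : Subgroup G) ≤ centralizer ({c * u * c⁻¹} : Set G) := by
    rintro u ⟨-, -, S, hS⟩
    obtain ⟨c, h1, rfl⟩ := hT x hx (isConj_iff.2 ⟨w, h⟩) S U
    exact ⟨c, h1, smul_le_cent hS c⟩
  obtain ⟨c, hc, hvU⟩ := key w hw
  have hv := hw.conj c
  have hvx := conj_inverts h hc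
  set v := c * w * c⁻¹
  -- `D` centralizes `x`
  have hDx : ∀ d ∈ D, Commute d x := by
    intro d hd
    have h1 := mem_cent.1 (hvU (hU hd))
    have h2 := mem_cent.1 (hvU (hU ((mem_normalizer_iff.1 hxD d).1 hd)))
    have h3 : x * d * x⁻¹ = x⁻¹ * d * x := by
      calc x * d * x⁻¹ = v * (x * d * x⁻¹) * v⁻¹ := by rw [← h2]; group
        _ = (v * x * v⁻¹) * (v * d * v⁻¹) * (v * x⁻¹ * v⁻¹) := by group
        _ = _ := by rw [hvx, conj_inv_of_inverts hvx, ← h1]; group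
    have h4 : Commute d (x ^ 2) := by
      calc d * x ^ 2 = x * (x⁻¹ * d * x) * x := by rw [sq]; group
        _ = x ^ 2 * d := by rw [← h3, sq]; group
    obtain ⟨n, hn⟩ : x ∈ zpowers (x ^ 2) :=
      mem_zpowers_pow_iff.2 (Nat.coprime_two_left.2 hx.odd)
    rw [← hn]
    exact h4.zpow_right n
  have hxx : x ≠ x⁻¹ := fun e => hx.ne_one (eq_one_of_odd_of_two_pow hx.odd (k := 1) (by
    rw [pow_one, sq]; nth_rewrite 2 [e]; simp))
  have hvD : v ∉ D := fun e => hxx (by rw [← hvx, (hDx v e).eq]; group)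
  have hN : ∀ u : G, (U : Subgroup G) ≤ centralizer ({u} : Set G) → u ∈ normalizer (D : Set G) :=
    fun u hu => centralizer_le_normalizer _ (le_cent_iff.1 (hU.trans hu))
  by_cases hA : ∀ u : G, Cen u → (U : Subgroup G) ≤ centralizer ({u} : Set G) → u ∈ D ∨ v⁻¹ * u ∈ D
  · have h1 : ∀ u : G, Cen u → u ∈ normalizer (zpowers x : Set G) := by
      intro u hu
      obtain ⟨c, hc, h2⟩ := key u hu
      have h3 := mem_normalizer_zpowers_of_commute hc
      have h4 : v ∈ normalizer (zpowers x : Set G) := by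
        apply GT.Tr.mem_normalizer_of_conj_mem
        intro a ha
        rw [Inv.inverts_of_mem_zpowers hvx ha]
        exact inv_mem ha
      have h5 : c * u * c⁻¹ ∈ normalizer (zpowers x : Set G) := by
        rcases hA _ (hu.conj c) h2 with h5 | h5
        · exact mem_normalizer_zpowers_of_commute (hDx _ h5)
        · exact (mul_mem_cancel_left (inv_mem h4)).1 (mem_normalizer_zpowers_of_commute (hDx _ h5))
      exact (mul_mem_cancel_left h3).1 ((mul_mem_cancel_right (inv_mem h3)).1 h5)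
    have h2 : normalClosure ({v} : Set G) ≤ normalizer (zpowers x : Set G) := by
      rw [normalClosure, closure_le]
      intro a ha
      obtain ⟨b, rfl, hb⟩ := Group.mem_conjugatesOfSet_iff.1 ha
      obtain ⟨g, rfl⟩ := isConj_iff.1 hb
      exact h1 _ (hv.conj g)
    rcases (inferInstance : (normalClosure ({v} : Set G)).Normal).eq_bot_or_eq_top with h3 | h3
    · have : v ∈ normalClosure ({v} : Set G) := subset_normalClosure rfl
      rw [h3, mem_bot] at this
      exact hv.1 this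
    rw [h3, top_le_iff, normalizer_eq_top_iff] at h2
    rcases h2.eq_bot_or_eq_top with h4 | h4
    · exact hx.ne_one (zpowers_eq_bot.1 h4)
    · have h5 : v ∈ zpowers x := by rw [h4]; trivial
      exact hxx (by rw [← hvx, (commute_of_mem_zpowers h5 (mem_zpowers x)).eq]; group)
  push Not at hA
  obtain ⟨u, hu, huU, huD, huv⟩ := hA
  have mem : ∀ (u : G) (hu : Cen u) (huU : (U : Subgroup G) ≤ centralizer ({u} : Set G)), u ∉ D →
      QuotientGroup.mk' _ (⟨u, hN u huU⟩ : normalizer (D : Set G)) ∈ Om D :=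
    fun u hu huU h => ⟨_, rfl, Subtype.ext hu.2.1, h, U, hU, huU⟩
  have C := hD.cfg hT ⟨_, mem v hv hvU hvD, QuotientGroup.mk' _ ⟨x, hxD⟩, by
    have h1 := orderOf_map_dvd (QuotientGroup.mk' (D.subgroupOf (normalizer (D : Set G))))
      ⟨x, hxD⟩
    rw [← orderOf_coe] at h1
    rcases (Nat.dvd_prime hx.1).1 h1 with h2 | h2
    · exact absurd ((QuotientGroup.eq_one_iff _).1 (orderOf_eq_one_iff.1 h2)) (hx.not_mem hD.1)
    · unfold OP
      rw [h2]
      exact hx, by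
    rw [← map_inv, ← map_inv, ← map_mul, ← map_mul]
    exact congrArg _ (Subtype.ext hvx)⟩
  have := C.eq_of_commute (mem v hv hvU hvD) (mem u hu huU huD) (Commute.map
    (Subtype.ext (mem_cent.1 (huU (mem_sylow_of_le_cent hv.2.1 hvU)))) _)
  rw [QuotientGroup.mk'_apply, QuotientGroup.mk'_apply, QuotientGroup.eq] at this
  exact huv this

end Cfsg.Agent.RCl
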