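import Mathlib
import Cfsg.Agent.RCl.Red
import Cfsg.Agent.FG.SylowCount
import Cfsg.Agent.GT.MinNormal
import Cfsg.Agent.S0205

/-!
# Real class sizes coprime to the number of Sylow 2-subgroups

If the class size of every real element of odd prime power order is coprime to the number of
Sylow 2-subgroups, the group is solvable.
-/

namespace Cfsg.Agent.RCl

open Subgroup FG.CI

theorem pow_odd_inverts {H : Type*} [Group H] {g y : H} (h : g * y * g⁻¹ = y⁻¹) {m : ℕ}
    (hm : Odd m) : g ^ m * y * (g ^ m)⁻¹ = y⁻¹ := by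
  obtain ⟨l, rfl⟩ := hm
  have h1 : Commute (g ^ 2) y := by
    have : g ^ 2 * y * (g ^ 2)⁻¹ = y := by
      calc g ^ 2 * y * (g ^ 2)⁻¹ = g * (g * y * g⁻¹) * g⁻¹ := by rw [sq]; group
        _ = y := by rw [h, conj_inv_of_inverts h]
    exact mul_inv_eq_iff_eq_mul.1 this
  have h2 : Commute (g ^ (2 * l)) y := by rw [pow_mul]; exact h1.pow_left l
  calc g ^ (2 * l + 1) * y * (g ^ (2 * l + 1))⁻¹
      = g * (g ^ (2 * l) * y * (g ^ (2 * l))⁻¹) * g⁻¹ := by rw [pow_succ']; group
    _ = y⁻¹ := by rw [h2.eq, mul_inv_cancel_right, h]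

theorem exists_inverted_fiber {G H : Type*} [Group G] [Finite G] [Group H] (f : G →* H)
    {R : Subgroup G} (hR : Odd (Nat.card R)) {a : G} (ha : a ∈ normalizer (R : Set G)) {j : ℕ}
    (hj : a ^ 2 ^ j = 1) {v : G} (hv : v ∈ R) (h : f a * f v * (f a)⁻¹ = (f v)⁻¹) :
    ∃ x ∈ R, f x = f v ∧ a * x * a⁻¹ = x⁻¹ := by
  classical
  let X := {x : G // x ∈ R ∧ f x = f v}
  have hX : Nat.card X = Nat.card (R ⊓ f.ker : Subgroup G) := by
    refine Nat.card_congr ⟨fun x => ⟨v⁻¹ * x.1, mul_mem (R.inv_mem hv) x.2.1, ?_⟩,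
      fun k => ⟨v * k.1, mul_mem hv k.2.1, ?_⟩, fun x => Subtype.ext (by simp),
      fun k => Subtype.ext (by simp)⟩
    · change f _ = 1
      rw [map_mul, map_inv, x.2.2, inv_mul_cancel]
    · rw [map_mul, (MonoidHom.mem_ker.1 k.2.2), mul_one]
  have hodd : ¬ 2 ∣ Nat.card X := fun e =>
    (Nat.not_even_iff_odd.2 hR) (even_iff_two_dvd.2 (e.trans (hX ▸ card_dvd_of_le inf_le_left)))
  let s : X → X := fun x => ⟨a * x.1⁻¹ * a⁻¹, (mem_normalizer_iff.1 ha _).1 (inv_mem x.2.1), by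
    rw [map_mul, map_mul, map_inv, map_inv, x.2.2, conj_inv_of_inverts h]⟩
  have hs : Function.Injective s := fun x y e => by
    have : a * x.1⁻¹ * a⁻¹ = a * y.1⁻¹ * a⁻¹ := congrArg Subtype.val e
    exact Subtype.ext (by simpa using this)
  let σ : Equiv.Perm X := Equiv.ofBijective s (Finite.injective_iff_bijective.1 hs)
  have hσ : ∀ (n : ℕ) (x : X), ((σ ^ (2 * n)) x).1 = a ^ (2 * n) * x.1 * (a ^ (2 * n))⁻¹ := by
    intro n
    induction n with
    | zero => simp
    | succ n ih =>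
      intro x
      rw [mul_add, mul_one, add_comm, pow_add, sq, Equiv.Perm.mul_apply, Equiv.Perm.mul_apply]
      change a * (a * ((σ ^ (2 * n)) x).1⁻¹ * a⁻¹)⁻¹ * a⁻¹ = _
      rw [ih, pow_add, sq]
      group
  have := Fintype.ofFinite X
  obtain ⟨x, hx⟩ := Equiv.Perm.exists_fixed_point_of_prime (p := 2) (n := j + 1) (σ := σ)
    (by rwa [← Nat.card_eq_fintype_card]) (by
      ext x
      rw [pow_succ', hσ, mul_comm 2, pow_mul, hj]
      simp)
  refine ⟨x.1, x.2.1, x.2.2, ?_⟩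
  have h1 : a * x.1⁻¹ * a⁻¹ = x.1 := congrArg Subtype.val hx
  have := conj_inv_of_inverts (t := a) (c := x.1⁻¹) (by rw [h1, inv_inv])
  rwa [inv_inv] at this

/-- A real element of odd prime power order lifts to a real element of prime power order. -/
theorem exists_real_lift {G H : Type*} [Group G] [Finite G] [Group H] {f : G →* H}
    (hf : Function.Surjective f) {r : ℕ} (hr : r.Prime) (hr2 : r ≠ 2) {y : H}
    (hy : ∃ k, orderOf y = r ^ k) (h : IsConj y y⁻¹) :
    ∃ x : G, (∃ k, orderOf x = r ^ k) ∧ IsConj x x⁻¹ ∧ f x = y := by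
  have : Finite H := Finite.of_surjective f hf
  have : Fact r.Prime := ⟨hr⟩
  obtain ⟨t, hyinv⟩ := isConj_iff.1 h
  set M := (zpowers y).comap f with hM
  obtain ⟨R, -, hRM, hR, hi⟩ := GT.Tr.exists_sylowIn_ge (p := r) (T := ⊥) (H := M)
    IsPGroup.of_bot bot_le
  obtain ⟨s, rfl⟩ := hf t
  have hs : s ∈ normalizer (M : Set G) := by
    apply GT.Tr.mem_normalizer_of_conj_mem
    intro m hm
    rw [hM, mem_comap] at hm ⊢
    rw [map_mul, map_mul, map_inv, Inv.inverts_of_mem_zpowers hyinv hm]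
    exact inv_mem hm
  obtain ⟨m, hm, k, hk, e⟩ := GT.Tr.frattini_sylowIn hR hRM hi hs
  have hkinv : f k * y * (f k)⁻¹ = y⁻¹ := by
    obtain ⟨j, hj⟩ := (mem_comap.1 hm : f m ∈ zpowers y)
    have : f k = (f m)⁻¹ * f s := by rw [e, map_mul]; group
    rw [this, ← hj]
    calc (y ^ j)⁻¹ * f s * y * ((y ^ j)⁻¹ * f s)⁻¹ = (y ^ j)⁻¹ * (f s * y * (f s)⁻¹) * y ^ j := by
          group
      _ = y⁻¹ := by rw [hyinv]; group
  have hRodd : Odd (Nat.card R) := by
    obtain ⟨n, hn⟩ := hR.exists_card_eq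
    rw [hn]; exact (hr.odd_of_ne_two hr2).pow
  have hyR : ∃ v ∈ R, f v = y := by
    have h2 : R.map f ≤ zpowers y := map_le_iff_le_comap.2 hRM
    have h3 : M.map f = zpowers y := map_comap_eq_self_of_surjective hf _
    have h4 : ¬ r ∣ (R.map f).relIndex (zpowers y) := by
      rw [← h3]
      intro h5
      apply hi
      refine h5.trans ?_
      rw [← relIndex_comap, ← inf_relIndex_right]
      exact relIndex_dvd_of_le_left _ (le_inf (le_comap_map _ _) hRM)
    have h5 := GT.Tr.le_of_sylowIn_le h4 (isPGroup_zpowers hy) h2 le_rfl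
    exact h5 (mem_zpowers y)
  obtain ⟨v, hv, rfl⟩ := hyR
  obtain ⟨j, l, hl, e2⟩ := Nat.exists_eq_two_pow_mul_odd (orderOf_pos k).ne'
  obtain ⟨x, hx, h1, h2⟩ := exists_inverted_fiber f hRodd (pow_mem hk l) (j := j)
    (by rw [← pow_mul, mul_comm, ← e2, pow_orderOf_eq_one]) hv
    (by rw [map_pow]; exact pow_odd_inverts hkinv hl)
  exact ⟨x, orderOf_of_mem hR hx, isConj_iff.2 ⟨_, h2⟩, h1⟩

/-- Real elements of odd prime power order have class size coprime to the number of Sylow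
2-subgroups. -/
def HC (G : Type*) [Group G] : Prop :=
  ∀ (r : ℕ) (x : G), r.Prime → r ≠ 2 → (∃ k, orderOf x = r ^ k) → IsConj x x⁻¹ →
    (cidx x).Coprime (Nat.card (Sylow 2 G))

variable {G : Type*} [Group G] [Finite G]

theorem HC.normal (h : HC G) (N : Subgroup G) [N.Normal] : HC N := by
  intro r x hr hr2 hx hc
  obtain ⟨P⟩ : Nonempty (Sylow 2 G) := inferInstance
  have h1 := h r x hr hr2 (by rwa [orderOf_coe]) (by simpa using N.subtype.map_isConj hc)
  refine (h1.coprime_dvd_left (cidx_coe_dvd N x)).coprime_dvd_right ?_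
  rw [FG.H96.card_sylow_normal P N, P.card_eq_index_normalizer]
  exact (relIndex_dvd_index_of_normal_right _ _).trans (index_dvd_of_le
    (GT.PG.le_normalizer_inf le_rfl (N.normalizer_eq_top ▸ le_top)))

theorem HC.quotient (h : HC G) (N : Subgroup G) [N.Normal] : HC (G ⧸ N) := by
  intro r y hr hr2 hy hc
  obtain ⟨P⟩ : Nonempty (Sylow 2 G) := inferInstance
  obtain ⟨x, h1, h2, rfl⟩ := exists_real_lift (QuotientGroup.mk'_surjective N) hr hr2 hy hc
  refine ((h r x hr hr2 h1 h2).coprime_dvd_left (cidx_mk_dvd N x)).coprime_dvd_right ?_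
  rw [FG.H96.card_sylow_quotient N P, P.card_eq_index_normalizer]
  exact index_dvd_of_le le_sup_left

theorem HC.tr (h : HC G) : Tr G := by
  intro x hx hc S T
  obtain ⟨g, rfl⟩ := MulAction.exists_smul_eq G S T
  have h1 := h _ x hx.1 hx.2 ⟨1, (pow_one _).symm⟩ hc
  rw [S.card_eq_index_normalizer] at h1
  obtain ⟨a, ha, b, hb, rfl⟩ := exists_mul_of_coprime_index h1 g
  exact ⟨a, mem_cent.1 ha, by rw [mul_smul, Sylow.smul_eq_iff_mem_normalizer.2 hb]⟩

omit [Finite G] in
theorem isSolvable_of_normal (N : Subgroup G) [N.Normal] (h1 : Group.IsSolvable N)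
    (h2 : Group.IsSolvable (G ⧸ N)) : Group.IsSolvable G :=
  Group.isSolvable_of_ker_le_range N.subtype (QuotientGroup.mk' N) (by simp)

theorem HC.isSolvable (G : Type*) [Group G] [Finite G] : HC G → Group.IsSolvable G := by
  refine GT.subgroup_quotient_induction (P := fun G _ _ => HC G → Group.IsSolvable G) ?_ G
  intro G _ _ ihS ihQ h
  by_cases hN : ∃ N : Subgroup G, N.Normal ∧ N ≠ ⊥ ∧ N ≠ ⊤
  · obtain ⟨N, hn, h1, h2⟩ := hN
    exact isSolvable_of_normal N (ihS N h2 (h.normal N)) (ihQ N h1 (h.quotient N))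
  push Not at hN
  rcases subsingleton_or_nontrivial G with _ | _
  · infer_instance
  have : IsSimpleGroup G := ⟨fun N hn => or_iff_not_imp_left.2 (hN N hn)⟩
  rcases Nat.even_or_odd (Nat.card G) with h1 | h1
  · rcases (inferInstance : (pCore 2 G).Normal).eq_bot_or_eq_top with h2 | h2
    · exact absurd h.tr (not_tr h1 h2)
    · have h3 : IsPGroup 2 G := by
        have := GT.isPGroup_pCore (G := G) 2
        rw [h2] at this
        exact this.of_equiv topEquiv
      have := h3.isNilpotent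
      infer_instance
  · exact S0205.result h1

end Cfsg.Agent.RCl
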