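import Mathlib
import Cfsg.Agent.RCl.Solv
import Cfsg.Agent.FG.RealElts
import Cfsg.Agent.S3861

/-!
# Groups whose prime graph on real class sizes is disconnected are solvable
-/

namespace Cfsg.Agent.RCl

open Subgroup FG.CI

/-- The prime graph on real class sizes splits into the parts `π₁`, `π₂`. -/
structure Dis (G : Type*) [Group G] (π₁ π₂ : Set ℕ) : Prop where
  ne₁ : ∃ x : G, IsConj x x⁻¹ ∧ ∃ p ∈ π₁, p.Prime ∧ p ∣ cidx x
  ne₂ : ∃ x : G, IsConj x x⁻¹ ∧ ∃ p ∈ π₂, p.Prime ∧ p ∣ cidx x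
  cover : ∀ q : ℕ, q.Prime → ∀ x : G, IsConj x x⁻¹ → q ∣ cidx x → q ∈ π₁ ∨ q ∈ π₂
  noedge : ∀ a ∈ π₁, ∀ b ∈ π₂, ∀ x : G, IsConj x x⁻¹ → a ∣ cidx x → ¬ b ∣ cidx x

variable {G : Type*} [Group G] {π₁ π₂ : Set ℕ}

theorem Dis.of (h₁ : π₁.Nonempty) (h₂ : π₂.Nonempty)
    (hcover : ∀ q : ℕ, q.Prime → (∃ n ∈ {n : ℕ | ∃ x : G, IsConj x x⁻¹ ∧
      (Subgroup.centralizer ({x} : Set G)).index = n}, q ∣ n) → q ∈ π₁ ∨ q ∈ π₂)
    (hsub : ∀ q ∈ π₁ ∪ π₂, q.Prime ∧ ∃ n ∈ {n : ℕ | ∃ x : G, IsConj x x⁻¹ ∧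
      (Subgroup.centralizer ({x} : Set G)).index = n}, q ∣ n)
    (hnoedge : ∀ a ∈ π₁, ∀ b ∈ π₂, ∀ n ∈ {n : ℕ | ∃ x : G, IsConj x x⁻¹ ∧
      (Subgroup.centralizer ({x} : Set G)).index = n}, ¬ (a ∣ n ∧ b ∣ n)) : Dis G π₁ π₂ := by
  refine ⟨?_, ?_, fun q hq x hx h => hcover q hq ⟨_, ⟨x, hx, rfl⟩, h⟩,
    fun a ha b hb x hx h1 h2 => hnoedge a ha b hb _ ⟨x, hx, rfl⟩ ⟨h1, h2⟩⟩
  · obtain ⟨p, hp⟩ := h₁
    obtain ⟨h1, _, ⟨x, hx, rfl⟩, h2⟩ := hsub p (Or.inl hp)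
    exact ⟨x, hx, p, hp, h1, h2⟩
  · obtain ⟨p, hp⟩ := h₂
    obtain ⟨h1, _, ⟨x, hx, rfl⟩, h2⟩ := hsub p (Or.inr hp)
    exact ⟨x, hx, p, hp, h1, h2⟩

theorem Dis.symm (D : Dis G π₁ π₂) : Dis G π₂ π₁ :=
  ⟨D.ne₂, D.ne₁, fun q hq x hx h => (D.cover q hq x hx h).symm,
    fun a ha b hb x hx h1 h2 => D.noedge b hb a ha x hx h2 h1⟩

theorem Dis.coprime (D : Dis G π₁ π₂) {x y : G} (hx : IsConj x x⁻¹) (hy : IsConj y y⁻¹)
    (h1 : ∀ b ∈ π₂, ¬ b ∣ cidx x) {b : ℕ} (hb : b ∈ π₂) (h2 : b ∣ cidx y) :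
    (cidx x).Coprime (cidx y) := by
  refine Nat.coprime_of_dvd fun q hq h3 h4 => ?_
  rcases D.cover q hq x hx h3 with h | h
  · exact D.noedge q h b hb y hy h4 h2
  · exact h1 q h h3

theorem two_dvd_cidx {x : G} (hx : Odd (orderOf x)) (h1 : x ≠ 1) (hr : IsConj x x⁻¹) :
    2 ∣ cidx x := by
  by_contra h
  refine h1 (eq_one_of_odd_of_two_pow hx (k := 1) ?_)
  rw [pow_one, sq]
  nth_rewrite 1 [← inv_eq_of_real_of_odd_cidx h hr]
  simp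

theorem two_pow_of_sq {y : G} (hy : y * y = 1) : ∃ k, orderOf y = 2 ^ k := by
  obtain ⟨k, -, hk⟩ := (Nat.dvd_prime_pow Nat.prime_two).1
    (orderOf_dvd_of_pow_eq_one (show y ^ 2 ^ 1 = 1 by rw [pow_one, sq, hy]))
  exact ⟨k, hk⟩

variable [Finite G]

theorem Dis.main (D : Dis G π₁ π₂) (h2 : 2 ∈ π₁) :
    ∃ (y : G) (p : ℕ), p ∈ π₂ ∧ p ∣ cidx y ∧ y * y = 1 ∧ ¬ 2 ∣ cidx y ∧
      (∀ x : G, Odd (orderOf x) → x ≠ 1 → IsConj x x⁻¹ → ¬ Commute x y) ∧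
      ∃ Q : Sylow 2 G, centralizer ({y} : Set G) ≤ normalizer ((Q : Subgroup G) : Set G) := by
  obtain ⟨y, hy, p, hp, -, hpy⟩ := D.ne₂
  have h3 : ¬ 2 ∣ cidx y := fun e => D.noedge 2 h2 p hp y hy e hpy
  have h4 : y * y = 1 := by
    nth_rewrite 1 [← inv_eq_of_real_of_odd_cidx h3 hy]
    simp
  obtain ⟨Q, hQ⟩ := (not_dvd_index_iff (p := 2) _).1 h3
  have h5 : ∀ x : G, Odd (orderOf x) → x ≠ 1 → IsConj x x⁻¹ → ¬ Commute x y := by
    intro x hx hx1 hr hc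
    have h6 := two_dvd_cidx hx hx1 hr
    have h7 := D.coprime hr hy (fun b hb => D.noedge 2 h2 b hb x hr h6) hp hpy
    obtain ⟨g, hg⟩ := isConj_iff.1 hr
    obtain ⟨t, -, ht, htx⟩ := exists_two_elt_inverts hg
    obtain ⟨c, hct⟩ := exists_conj_mem_sylow Q ht
    obtain ⟨a, ha, b, hb, e⟩ := exists_mul_of_coprime_index h7 c⁻¹
    set y' := c⁻¹ * y * c⁻¹⁻¹ with hy'
    have h8 : y' = a * y * a⁻¹ := by
      rw [hy', e]
      calc a * b * y * (a * b)⁻¹ = a * (b * y * b⁻¹) * a⁻¹ := by group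
        _ = _ := by rw [mem_cent'.1 hb]
    have h9 : Commute x y' := by
      have ha' : Commute x a := (mem_cent.1 ha).symm
      rw [h8]
      exact (ha'.mul_right hc).mul_right ha'.inv_right
    have h10 : t * y' * t⁻¹ = y' := by
      rw [← mem_cent', hy', mem_cent_conj, inv_inv]
      exact hQ hct
    have h11 : y' * y' = 1 := conj_sq h4 _
    have h12 : IsConj (x * y') (x * y')⁻¹ := isConj_iff.2 ⟨t, by
      rw [← conj_mul, htx, h10, h9.eq, mul_inv_rev, Inv.inv_of_mul_self h11]⟩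
    have h13 : (orderOf x).Coprime (orderOf y') := by
      obtain ⟨k, hk⟩ := two_pow_of_sq h11
      rw [hk]
      exact (Nat.coprime_two_right.2 hx).pow_right k
    refine D.noedge 2 h2 p hp _ h12 (h6.trans (cidx_dvd_cidx_mul_left h9 h13))
      (Dvd.dvd.trans ?_ (cidx_dvd_cidx_mul_right h9 h13))
    rwa [hy', cidx_conj]
  refine ⟨y, p, hp, hpy, h4, h3, h5, Q, ?_⟩
  have h6 := (S3861.result (Q.subtype hQ)).1 fun x hx1 hx hr => h5 x (by rwa [orderOf_coe])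
    (by simpa using hx1) (by simpa using (centralizer ({y} : Set G)).subtype.map_isConj hr)
    (mem_cent.1 x.2)
  exact (normal_subgroupOf_iff_le_normalizer hQ).1 h6

theorem Dis.isSolvable_of_two (D : Dis G π₁ π₂) (h2 : 2 ∈ π₁) : Group.IsSolvable G := by
  obtain ⟨y, p, hp, hpy, h4, -, -, Q, hQ⟩ := D.main h2
  refine HC.isSolvable G fun r x hr hr2 ⟨k, hk⟩ hx => ?_
  by_cases h1 : x = 1
  · rw [h1, cidx_one]; exact Nat.coprime_one_left _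
  have h6 := two_dvd_cidx (hk ▸ (hr.odd_of_ne_two hr2).pow) h1 hx
  refine (D.coprime hx (by rw [Inv.inv_of_mul_self h4]) (fun b hb => D.noedge 2 h2 b hb x hx h6)
    hp hpy).coprime_dvd_right ?_
  rw [Q.card_eq_index_normalizer]
  exact index_dvd_of_le hQ

theorem exists_real_of_not_normal {P : Sylow 2 G} (h : ¬ (P : Subgroup G).Normal) :
    ∃ x : G, Odd (orderOf x) ∧ x ≠ 1 ∧ IsConj x x⁻¹ := by
  by_contra h1
  exact h ((S3861.result P).1 fun x a b c => h1 ⟨x, b, a, c⟩)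

theorem Dis.two_mem (D : Dis G π₁ π₂) {P : Sylow 2 G} (h : ¬ (P : Subgroup G).Normal) :
    2 ∈ π₁ ∨ 2 ∈ π₂ := by
  obtain ⟨x, h1, h2, h3⟩ := exists_real_of_not_normal h
  exact D.cover 2 Nat.prime_two x h3 (two_dvd_cidx h1 h2 h3)

theorem Dis.isSolvable (D : Dis G π₁ π₂) : Group.IsSolvable G := by
  obtain ⟨P⟩ : Nonempty (Sylow 2 G) := inferInstance
  by_cases h : (P : Subgroup G).Normal
  · have := P.isPGroup'.isNilpotent
    exact isSolvable_of_normal (P : Subgroup G) inferInstance (S0205.result (by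
      rw [← Nat.not_even_iff_odd, even_iff_two_dvd]; exact P.not_dvd_index))
  · rcases D.two_mem h with h2 | h2
    · exact D.isSolvable_of_two h2
    · exact D.symm.isSolvable_of_two h2

end Cfsg.Agent.RCl
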