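import Mathlib
import Cfsg.Agent.RCl.Graph
import Cfsg.Agent.S3863
import Cfsg.Agent.S0017

/-!
# Structure of groups with disconnected prime graph on real class sizes
-/

namespace Cfsg.Agent.RCl

open Subgroup FG.CI

theorem norm_fix {V A : Type*} [CommGroup V] (hV : ∀ v : V, v * v = 1) [Group A] [Finite A]
    [MulDistribMulAction A V] (hA : Odd (Nat.card A)) (B : Subgroup A) {y₁ y₂ : V}
    (h2 : ∀ b ∈ B, b • y₂ = y₂) (h1 : ∀ a : A, ∃ b ∈ B, a • y₁ = b • y₁)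
    (h : ∀ a : A, ∃ b ∈ B, a • (y₁ * y₂) = b • (y₁ * y₂)) (a : A) : a • y₂ = y₂ := by
  classical
  have := Fintype.ofFinite A
  have odd : ∀ (v : V) {n : ℕ}, Odd n → v ^ n = v := by
    rintro v _ ⟨l, rfl⟩
    rw [pow_succ, pow_mul, sq, hV, one_pow, one_mul]
  have hB : Odd (Fintype.card B) := by
    rw [← Nat.card_eq_fintype_card]; exact hA.of_dvd_nat B.card_subgroup_dvd_card
  have hA' : Odd (Fintype.card A) := by rwa [← Nat.card_eq_fintype_card]
  have k1 : ∀ (v : V) (a : A), a • ∏ c : A, c • v = ∏ c : A, c • v := by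
    intro v a
    rw [Finset.smul_prod']
    exact Fintype.prod_equiv (Equiv.mulLeft a) _ _ fun c => by simp [mul_smul]
  have k2 : ∀ (v : V), ∀ b ∈ B, ∏ c : B, (c : A) • b • v = ∏ c : B, (c : A) • v := by
    intro v b hb
    exact Fintype.prod_equiv (Equiv.mulRight (⟨b, hb⟩ : B)) _ _ fun c => by simp [mul_smul]
  have k3 : ∀ v : V, (∀ a : A, ∃ b ∈ B, a • v = b • v) →
      ∏ c : A, c • v = ∏ c : B, (c : A) • v := by
    intro v hv
    calc ∏ c : A, c • v = (∏ c : A, c • v) ^ Fintype.card B := (odd _ hB).symm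
      _ = ∏ b : B, (b : A) • ∏ c : A, c • v := by simp [k1]
      _ = ∏ c : A, ∏ b : B, (b : A) • c • v := by
        rw [Finset.prod_comm]
        exact Finset.prod_congr rfl fun b _ => Finset.smul_prod'
      _ = ∏ _c : A, ∏ b : B, (b : A) • v := by
        refine Finset.prod_congr rfl fun c _ => ?_
        obtain ⟨b, hb, e⟩ := hv c
        rw [e, k2 v b hb]
      _ = _ := by rw [Finset.prod_const, Finset.card_univ, odd _ hA']
  have k4 : ∏ c : B, (c : A) • y₂ = y₂ := by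
    rw [Finset.prod_congr rfl fun (c : B) _ => h2 c c.2, Finset.prod_const, Finset.card_univ, odd _ hB]
  have k5 := k3 _ h
  simp only [smul_mul', Finset.prod_mul_distrib] at k5
  rw [k3 _ h1, k4, mul_right_inj] at k5
  rw [← k5, k1]

variable {G : Type*} [Group G] [Finite G] {π₁ π₂ : Set ℕ}

theorem mem_center_of_coprime (h : ∀ x : G, x * x = 1 → ¬ 2 ∣ cidx x) {P : Sylow 2 G}
    (hP : (P : Subgroup G).Normal) {y₁ y₂ : G} (q₁ : y₁ * y₁ = 1) (q₂ : y₂ * y₂ = 1)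
    (c₁ : (cidx y₁).Coprime (cidx y₂)) (c₂ : (cidx (y₁ * y₂)).Coprime (cidx y₂)) :
    y₂ ∈ center G := by
  have k : ∀ x : G, x * x = 1 → x ∈ (P : Subgroup G) ∧
      (P : Subgroup G) ≤ centralizer ({x} : Set G) := by
    intro x hx
    obtain ⟨Q, h1, h2⟩ := exists_sylow_mem_le_cent (two_pow_of_sq hx) (h x hx)
    have := Sylow.unique_of_normal P hP
    obtain rfl : Q = P := Subsingleton.elim _ _
    exact ⟨h1, h2⟩
  have kc : ∀ x y : G, x * x = 1 → y * y = 1 → x * y = y * x :=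
    fun x y hx hy => mem_cent.1 ((k y hy).2 (k x hx).1)
  let V : Subgroup G :=
    { carrier := {x | x * x = 1}
      one_mem' := mul_one 1
      mul_mem' := fun {a b} ha hb => (Inv.commute_iff_mul_sq ha hb).1 (kc a b ha hb)
      inv_mem' := fun {a} ha => by
        change a⁻¹ * a⁻¹ = 1
        rw [Inv.inv_of_mul_self ha]; exact ha }
  have : V.Normal := ⟨fun n hn g => conj_sq hn g⟩
  let _ : CommGroup V := { (inferInstance : Group V) with
    mul_comm := fun a b => Subtype.ext (kc a b a.2 b.2) }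
  let φ : G →* MulAut V := MulAut.conjNormal
  have hφ : ∀ (g : G) (v : V), ((φ.rangeRestrict g • v : V) : G) = g * v * g⁻¹ := fun _ _ => rfl
  have hA : Odd (Nat.card φ.range) := by
    rw [← index_ker, ← Nat.not_even_iff_odd, even_iff_two_dvd]
    refine fun e => P.not_dvd_index (e.trans (index_dvd_of_le fun g hg => ?_))
    rw [MonoidHom.mem_ker]
    ext v
    exact mem_cent'.1 ((k v v.2).2 hg)
  have tr : ∀ v : V, (cidx (v : G)).Coprime (cidx y₂) → ∀ a : φ.range,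
      ∃ b ∈ (centralizer ({y₂} : Set G)).map φ.rangeRestrict, a • v = b • v := by
    intro v hv a
    obtain ⟨g, rfl⟩ := φ.rangeRestrict_surjective a
    obtain ⟨c, hc, d, hd, rfl⟩ := exists_mul_of_coprime_index hv.symm g
    refine ⟨_, ⟨c, hc, rfl⟩, Subtype.ext ?_⟩
    rw [hφ, hφ]
    calc c * d * v * (c * d)⁻¹ = c * (d * v * d⁻¹) * c⁻¹ := by group
      _ = _ := by rw [mem_cent'.1 hd]
  rw [mem_center_iff]
  intro g
  have := norm_fix (V := V) (fun v => Subtype.ext v.2) hA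
    ((centralizer ({y₂} : Set G)).map φ.rangeRestrict) (y₁ := ⟨y₁, q₁⟩) (y₂ := ⟨y₂, q₂⟩)
    (by
      rintro _ ⟨c, hc, rfl⟩
      exact Subtype.ext (mem_cent'.1 hc)) (tr _ c₁) (tr _ c₂) (φ.rangeRestrict g)
  exact mul_inv_eq_iff_eq_mul.1 (congrArg Subtype.val this)

theorem Dis.exists_even (D : Dis G π₁ π₂) : ∃ x : G, IsConj x x⁻¹ ∧ 2 ∣ cidx x := by
  by_contra h
  push Not at h
  obtain ⟨P⟩ : Nonempty (Sylow 2 G) := inferInstance
  have hP : (P : Subgroup G).Normal := by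
    by_contra h1
    obtain ⟨x, h2, h3, h4⟩ := exists_real_of_not_normal h1
    exact h x h4 (two_dvd_cidx h2 h3 h4)
  have sq : ∀ x : G, IsConj x x⁻¹ → x * x = 1 := fun x hx => by
    nth_rewrite 1 [← inv_eq_of_real_of_odd_cidx (h x hx) hx]
    simp
  have h' : ∀ x : G, x * x = 1 → ¬ 2 ∣ cidx x := fun x hx =>
    h x (by rw [Inv.inv_of_mul_self hx])
  obtain ⟨y₁, r₁, p₁, hp₁, hq₁, d₁⟩ := D.ne₁
  obtain ⟨y₂, r₂, p₂, hp₂, hq₂, d₂⟩ := D.ne₂
  have c := D.coprime r₁ r₂ (fun b hb => D.noedge p₁ hp₁ b hb y₁ r₁ d₁) hp₂ d₂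
  have k : ∀ x : G, x * x = 1 → x ∈ (P : Subgroup G) ∧
      (P : Subgroup G) ≤ centralizer ({x} : Set G) := by
    intro x hx
    obtain ⟨Q, h1, h2⟩ := exists_sylow_mem_le_cent (two_pow_of_sq hx) (h' x hx)
    have := Sylow.unique_of_normal P hP
    obtain rfl : Q = P := Subsingleton.elim _ _
    exact ⟨h1, h2⟩
  have hc : y₁ * y₂ = y₂ * y₁ := mem_cent.1 ((k y₂ (sq _ r₂)).2 (k y₁ (sq _ r₁)).1)
  have r : IsConj (y₁ * y₂) (y₁ * y₂)⁻¹ := by
    rw [Inv.inv_of_mul_self ((Inv.commute_iff_mul_sq (sq _ r₁) (sq _ r₂)).1 hc)]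
  by_cases h1 : ∀ b ∈ π₂, ¬ b ∣ cidx (y₁ * y₂)
  · have := mem_center_of_coprime h' hP (sq _ r₁) (sq _ r₂) c (D.coprime r r₂ h1 hp₂ d₂)
    rw [cidx_eq_one_iff.2 this] at d₂
    exact hq₂.one_lt.ne' (Nat.dvd_one.1 d₂)
  · push Not at h1
    obtain ⟨b, hb, h2⟩ := h1
    have := mem_center_of_coprime h' hP (sq _ r₂) (sq _ r₁) c.symm (hc ▸ D.symm.coprime r r₁
      (fun a ha e => D.noedge a ha b hb _ r e h2) hp₁ d₁)
    rw [cidx_eq_one_iff.2 this] at d₁
    exact hq₁.one_lt.ne' (Nat.dvd_one.1 d₁)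

/-- The subgroup generated by the 2-elements. -/
abbrev K2 (G : Type*) [Group G] : Subgroup G := closure {g : G | ∃ k : ℕ, orderOf g = 2 ^ k}

omit [Finite G] in
instance K2_normal : (K2 G).Normal := by
  refine ⟨fun n hn g => ?_⟩
  have : K2 G ≤ (K2 G).comap (MulAut.conj g).toMonoidHom := by
    rw [closure_le]
    rintro a ⟨k, hk⟩
    exact subset_closure ⟨k, (Inv.orderOf_conj' g a).trans hk⟩
  exact this hn

theorem odd_index_K2 : Odd (K2 G).index := by
  obtain ⟨P⟩ : Nonempty (Sylow 2 G) := inferInstance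
  rw [← Nat.not_even_iff_odd, even_iff_two_dvd]
  exact fun e => P.not_dvd_index (e.trans (index_dvd_of_le fun g hg =>
    subset_closure (orderOf_of_mem P.isPGroup' hg)))

theorem not_dvd_card_K2 [Group.IsSolvable G] (Q : Sylow 2 G) {q : ℕ} (hq : q.Prime) (h2 : q ≠ 2)
    (h : ¬ q ∣ (normalizer ((Q : Subgroup G) : Set G)).index) : ¬ q ∣ Nat.card (K2 G) := by
  have : Fact q.Prime := ⟨hq⟩
  obtain ⟨R, hR⟩ := (not_dvd_index_iff (p := q) _).1 h
  let f := QuotientGroup.mk' (pPrimeCore q G)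
  have hf : Function.Surjective f := QuotientGroup.mk'_surjective _
  have h1 := S0017.result q (GT.pPrimeCore_quotient_pPrimeCore (G := G) (p := q))
  have h3 : pCore q (G ⧸ pPrimeCore q G) ≤ (R : Subgroup G).map f :=
    GT.pCore_le_sylow (R.mapSurjective hf)
  have h4 : Disjoint ((Q : Subgroup G).map f) (pCore q (G ⧸ pPrimeCore q G)) :=
    IsPGroup.disjoint_of_ne 2 q h2.symm _ _ (Q.isPGroup'.map f) (GT.isPGroup_pCore q)
  have h5 : (Q : Subgroup G) ≤ pPrimeCore q G := by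
    intro s hs
    rw [← QuotientGroup.eq_one_iff]
    refine disjoint_def.1 h4 ⟨s, hs, rfl⟩ (h1 (mem_centralizer_iff.2 fun a ha => ?_))
    have h6 : a * f s * a⁻¹ * (f s)⁻¹ = 1 := by
      refine disjoint_def.1 h4 ?_ ?_
      · obtain ⟨b, hb, rfl⟩ := h3 ha
        exact ⟨b * s * b⁻¹ * s⁻¹, mul_mem ((mem_normalizer_iff.1 (hR hb) s).1 hs) (inv_mem hs),
          by simp⟩
      · have := mul_mem ha ((inferInstance : (pCore q (G ⧸ pPrimeCore q G)).Normal).conj_mem _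
          (inv_mem ha) (f s))
        simpa [mul_assoc] using this
    rwa [mul_inv_eq_one, mul_inv_eq_iff_eq_mul] at h6
  refine fun e => GT.not_dvd_card_pPrimeCore (G := G) hq (e.trans (card_dvd_of_le ?_))
  rw [closure_le]
  intro g hg
  obtain ⟨c, hc⟩ := exists_conj_mem_sylow Q hg
  simpa [mul_assoc] using
    (inferInstance : (pPrimeCore q G).Normal).conj_mem _ (h5 hc) c⁻¹

theorem Dis.K2_spec (D : Dis G π₁ π₂) (h2 : 2 ∈ π₁) {P : Sylow 2 G}
    (hP : ¬ (P : Subgroup G).Normal) :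
    (∃ x : K2 G, IsConj x x⁻¹ ∧ 2 ∣ cidx x) ∧
    (∃ x : K2 G, IsConj x x⁻¹ ∧ ∃ q : ℕ, q.Prime ∧ q ≠ 2 ∧ q ∣ cidx x) ∧
    ∀ x : K2 G, IsConj x x⁻¹ → Odd (cidx x) ∨ ∃ j, cidx x = 2 ^ j := by
  have := D.isSolvable
  obtain ⟨y, p, hp, hpy, h4, h3, h5, Q, hQ⟩ := D.main h2
  obtain ⟨x, hx, hx1, hxr⟩ := exists_real_of_not_normal hP
  obtain ⟨hxK, hxr'⟩ := (S3863.result x hxr).2.2 (K2 G) odd_index_K2
  refine ⟨⟨_, hxr', two_dvd_cidx (by rwa [← orderOf_coe]) (by simpa using hx1) hxr'⟩, ?_, ?_⟩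
  · have hyK : y ∈ K2 G := subset_closure (two_pow_of_sq h4)
    have h6 : cidx (⟨y, hyK⟩ : K2 G) ≠ 1 := fun e => h5 x hx hx1 hxr
      (congrArg Subtype.val (mem_center_iff.1 (cidx_eq_one_iff.1 e) ⟨x, hxK⟩))
    obtain ⟨q, hq, h7⟩ := Nat.exists_prime_and_dvd h6
    refine ⟨⟨y, hyK⟩, by rw [Inv.inv_of_mul_self (Subtype.ext h4)], q, hq, ?_, h7⟩
    rintro rfl
    exact h3 (h7.trans (cidx_coe_dvd _ _))
  · intro z hz
    have hz' : IsConj (z : G) (z : G)⁻¹ := by simpa using (K2 G).subtype.map_isConj hz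
    have h6 := cidx_coe_dvd _ z
    rcases Nat.even_or_odd (cidx z) with h7 | h7
    · refine Or.inr ⟨_, Nat.eq_prime_pow_of_unique_prime_dvd (cidx_ne_zero z) fun {q} hq h8 => ?_⟩
      by_contra h9
      have h10 : q ∣ cidx y := by
        by_contra h10
        exact not_dvd_card_K2 Q hq h9 (fun e => h10 (e.trans (index_dvd_of_le hQ)))
          (h8.trans (cidx_dvd_card z))
      have ry : IsConj y y⁻¹ := by rw [Inv.inv_of_mul_self h4]
      rcases D.cover q hq y ry h10 with h11 | h11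
      · exact D.noedge q h11 p hp y ry h10 hpy
      · exact D.noedge 2 h2 q h11 z hz' ((even_iff_two_dvd.1 h7).trans h6) (h8.trans h6)
    · exact Or.inl h7

end Cfsg.Agent.RCl
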